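import Cfsg.Agent.H59.OrthOrder

/-!
The element orders of eight dimensional isometry groups in characteristic two divide one of twelve
explicit numbers.
-/

set_option autoImplicit false

namespace Cfsg.Agent.H18.SpecEight

open Polynomial Cfsg.Agent

/-- Exponent vectors with respect to `2, q-1, q+1, q²+1, q⁴+1, q²+q+1, q²-q+1`. -/
abbrev Ex := Fin 7 → ℕ

/-- The seven factors. -/
def base (q : ℕ) : Fin 7 → ℕ :=
  ![2, q - 1, q + 1, q ^ 2 + 1, q ^ 4 + 1, q ^ 2 + q + 1, q * (q - 1) + 1]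

/-- The number of an exponent vector. -/
def ev (q : ℕ) (v : Ex) : ℕ := ∏ i, base q i ^ v i

theorem ev_dvd (q : ℕ) {v w : Ex} (h : ∀ i, v i ≤ w i) : ev q v ∣ ev q w :=
  Finset.prod_dvd_prod_of_dvd _ _ fun i _ => pow_dvd_pow _ (h i)

theorem ev_eq (q : ℕ) (v : Ex) : ev q v = 2 ^ v 0 * (q - 1) ^ v 1 * (q + 1) ^ v 2 * (q ^ 2 + 1) ^ v 3 *
    (q ^ 4 + 1) ^ v 4 * (q ^ 2 + q + 1) ^ v 5 * (q * (q - 1) + 1) ^ v 6 := by
  rw [ev, Fin.prod_univ_seven]
  rfl

/-- Two power needed for a multiplicity `j ≤ 8`. -/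
def lg (j : ℕ) : ℕ := if j ≤ 1 then 0 else if j ≤ 2 then 1 else if j ≤ 4 then 2 else 3

theorem le_two_pow_lg {j : ℕ} (h : j ≤ 8) : j ≤ 2 ^ lg j := by
  unfold lg
  split_ifs <;> norm_num <;> omega

/-- `q ^ D ± 1` times `2 ^ e`. -/
def blk : ℕ → ℕ → Bool → Ex
  | 1, e, true => ![e, 0, 1, 0, 0, 0, 0]
  | 1, e, false => ![e, 1, 0, 0, 0, 0, 0]
  | 2, e, true => ![e, 0, 0, 1, 0, 0, 0]
  | 2, e, false => ![e, 1, 1, 0, 0, 0, 0]
  | 3, e, true => ![e, 0, 1, 0, 0, 0, 1]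
  | 3, e, false => ![e, 1, 0, 0, 0, 1, 0]
  | 4, e, true => ![e, 0, 0, 0, 1, 0, 0]
  | 4, e, false => ![e, 1, 1, 1, 0, 0, 0]
  | _, e, _ => ![e, 0, 0, 0, 0, 0, 0]

theorem ev_blk {q : ℕ} (hq : 1 ≤ q) {D : ℕ} (h1 : 1 ≤ D) (h4 : D ≤ 4) (e : ℕ) (s : Bool) :
    ev q (blk D e s) = 2 ^ e * (if s then q ^ D + 1 else q ^ D - 1) := by
  obtain ⟨k, rfl⟩ : ∃ k, q = k + 1 := ⟨q - 1, by omega⟩
  have e2 : (k + 1) ^ 2 - 1 = k * (k + 2) := by
    have : (k + 1) ^ 2 = k * (k + 2) + 1 := by ring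
    omega
  have e3 : (k + 1) ^ 3 - 1 = k * ((k + 1) ^ 2 + (k + 1) + 1) := by
    have : (k + 1) ^ 3 = k * ((k + 1) ^ 2 + (k + 1) + 1) + 1 := by ring
    omega
  have e4 : (k + 1) ^ 4 - 1 = k * (k + 2) * ((k + 1) ^ 2 + 1) := by
    have : (k + 1) ^ 4 = k * (k + 2) * ((k + 1) ^ 2 + 1) + 1 := by ring
    omega
  interval_cases D <;> cases s <;> rw [ev_eq] <;>
    simp [blk, e2, e3, e4, Nat.mul_assoc] <;> ring

/-- What a self reciprocal polynomial of degree `2 w` without root one may need. -/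
def W : ℕ → List Ex
  | 0 => [![0, 0, 0, 0, 0, 0, 0]]
  | 1 => [![0, 1, 0, 0, 0, 0, 0], ![0, 0, 1, 0, 0, 0, 0]]
  | 2 => [![0, 1, 1, 0, 0, 0, 0], ![0, 0, 0, 1, 0, 0, 0], ![1, 1, 0, 0, 0, 0, 0], ![1, 0, 1, 0, 0, 0, 0]]
  | 3 => [![0, 1, 0, 0, 0, 1, 0], ![0, 0, 1, 0, 0, 0, 1], ![0, 1, 0, 1, 0, 0, 0], ![0, 0, 1, 1, 0, 0, 0],
      ![1, 1, 1, 0, 0, 0, 0], ![2, 1, 0, 0, 0, 0, 0], ![2, 0, 1, 0, 0, 0, 0]]
  | 4 => [![0, 0, 0, 0, 1, 0, 0], ![0, 1, 1, 1, 0, 0, 0], ![0, 1, 1, 0, 0, 1, 0], ![0, 1, 1, 0, 0, 0, 1],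
      ![1, 1, 0, 1, 0, 0, 0], ![1, 0, 1, 1, 0, 0, 0], ![2, 1, 1, 0, 0, 0, 0]]
  | _ => []

/-- The twelve maximal orders. -/
def top : List Ex :=
  [![0, 0, 0, 0, 1, 0, 0], ![0, 1, 1, 1, 0, 0, 0], ![0, 1, 1, 0, 0, 1, 0], ![0, 1, 1, 0, 0, 0, 1],
    ![1, 1, 0, 0, 0, 1, 0], ![1, 0, 1, 0, 0, 0, 1], ![1, 1, 0, 1, 0, 0, 0], ![1, 0, 1, 1, 0, 0, 0],
    ![2, 1, 1, 0, 0, 0, 0], ![2, 0, 0, 1, 0, 0, 0], ![3, 1, 0, 0, 0, 0, 0], ![3, 0, 1, 0, 0, 0, 0]]

theorem W_closed : ∀ w : Fin 5, ∀ D : Fin 5, ∀ j : Fin 5, ∀ s : Bool,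
    1 ≤ D.val → 1 ≤ j.val → j.val * D.val ≤ w.val →
    ∀ v ∈ W (w.val - j.val * D.val), ∃ z ∈ W w.val,
      (∀ i, blk D.val (lg j.val) s i ≤ z i) ∧ ∀ i, v i ≤ z i := by
  decide +kernel

theorem top_closed : ∀ r : Fin 5, ∀ v ∈ W (4 - r.val), ∃ z ∈ top,
    (∀ i, blk 0 (lg (2 * r.val)) false i ≤ z i) ∧ ∀ i, v i ≤ z i := by
  decide +kernel

section
variable {F : Type*} [Field F]

theorem X_pow_sub_one_dvd {T T' : ℕ} (h : T ∣ T') : (X ^ T - 1 : F[X]) ∣ X ^ T' - 1 := by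
  obtain ⟨w, rfl⟩ := h
  exact pow_one_sub_dvd_pow_mul_sub_one X T w

theorem mul_dvd_X_pow_sub_one {P P' : F[X]} {T T' N : ℕ} (hc : IsCoprime P P')
    (h : P ∣ X ^ T - 1) (h' : P' ∣ X ^ T' - 1) (hT : T ∣ N) (hT' : T' ∣ N) :
    P * P' ∣ X ^ N - 1 :=
  hc.mul_dvd (h.trans (X_pow_sub_one_dvd hT)) (h'.trans (X_pow_sub_one_dvd hT'))

theorem pow_dvd_two_pow [CharP F 2] {f : F[X]} {M j e : ℕ} (h : f ∣ X ^ M - 1) (hj : j ≤ 2 ^ e) :
    f ^ j ∣ X ^ (2 ^ e * M) - 1 := by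
  haveI : Fact (Nat.Prime 2) := ⟨Nat.prime_two⟩
  refine (pow_dvd_pow f hj).trans ?_
  have h2 := pow_dvd_pow_of_dvd h (2 ^ e)
  rwa [sub_pow_char_pow, one_pow, ← pow_mul, mul_comm M] at h2

variable [Fintype F] [CharP F 2]

local notation "dual" => H67.dualPoly (RingHom.id F)

/-- A self reciprocal polynomial of degree `2 w ≤ 8` without root one divides `X ^ T - 1` with `T` from `W w`. -/
theorem budget (B : F[X]) (hm : B.Monic) (h0 : B.coeff 0 ≠ 0) (hd : dual B = B)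
    (h1 : ∀ c : F, c * c = 1 → ¬ (X - C c) ∣ B) (h8 : B.natDegree ≤ 8) :
    ∃ w, B.natDegree = 2 * w ∧ ∃ v ∈ W w, B ∣ X ^ ev (Fintype.card F) v - 1 := by
  classical
  have hq : 1 ≤ Fintype.card F := Fintype.card_pos
  induction hn : B.natDegree using Nat.strong_induction_on generalizing B with
  | _ n ih =>
    subst hn
    by_cases hB : B.natDegree = 0
    · obtain rfl := hm.natDegree_eq_zero.mp hB
      exact ⟨0, hB, _, List.mem_singleton.2 rfl, one_dvd _⟩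
    obtain ⟨f, hfm, hf, hfB⟩ := Polynomial.exists_monic_irreducible_factor B
      (fun h => hB (natDegree_eq_zero_of_isUnit h))
    have : Fact (Irreducible f) := ⟨hf⟩
    have hf0 : f.coeff 0 ≠ 0 := by
      obtain ⟨u, hu⟩ := hfB
      intro h
      exact h0 (by rw [hu, mul_coeff_zero, h, zero_mul])
    obtain ⟨b₁, hb₁, hfb₁⟩ :=
      (FiniteMultiplicity.of_prime_left hf.prime hm.ne_zero).exists_eq_pow_mul_and_not_dvd
    set j := multiplicity f B
    have hj : 1 ≤ j := Nat.one_le_iff_ne_zero.mpr fun h => by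
      rw [h, pow_zero, one_mul] at hb₁
      exact hfb₁ (hb₁ ▸ hfB)
    have fin : ∀ (u D : ℕ) (s : Bool), 1 ≤ D → j * D + u ≤ 4 → ∀ v ∈ W u,
        ∃ z ∈ W (j * D + u), 2 ^ lg j * (if s then Fintype.card F ^ D + 1 else Fintype.card F ^ D - 1) ∣
          ev (Fintype.card F) z ∧ ev (Fintype.card F) v ∣ ev (Fintype.card F) z := by
      intro u D s hD hle v hv
      have hj4 : j < 5 := by nlinarith
      have hD4 : D < 5 := by nlinarith
      obtain ⟨z, hz, hz1, hz2⟩ := W_closed ⟨j * D + u, by omega⟩ ⟨D, hD4⟩ ⟨j, hj4⟩ s hD hj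
        (show j * D ≤ j * D + u by omega) v (by rwa [show j * D + u - j * D = u by omega])
      exact ⟨z, hz, ev_blk hq hD (by omega) (lg j) s ▸ ev_dvd _ hz1, ev_dvd _ hz2⟩
    set f' := dual f with hf'def
    by_cases heq : f' = f
    · rcases H71.SympBlocks.root_pow_of_self_dual hfm hf0 heq with ⟨hd1, hsq⟩ | ⟨D, hD, hdeg, hroot⟩
      · exfalso
        obtain ⟨c, hc, hdv⟩ := H71.SympBlocks.exists_scalar (f := f) (N := 1) (by rwa [pow_one])
        rw [pow_one] at hdv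
        exact h1 c hc ((eq_of_monic_of_associated hfm (monic_X_sub_C c)
          (hf.associated_of_dvd (irreducible_X_sub_C c) hdv)) ▸ hfB)
      have hb₁m : b₁.Monic := (hfm.pow j).of_mul_monic_left (hb₁ ▸ hm)
      have hb₁d : dual b₁ = b₁ := by
        have := hd
        rw [hb₁, H67.dualPoly_mul, H67.dualPoly_pow, ← hf'def, heq] at this
        exact mul_left_cancel₀ (pow_ne_zero _ hf.ne_zero) this
      have hdegB : B.natDegree = j * (2 * D) + b₁.natDegree := by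
        rw [hb₁, natDegree_mul (pow_ne_zero _ hf.ne_zero) hb₁m.ne_zero, natDegree_pow, hdeg]
      have hlt : b₁.natDegree < B.natDegree := by
        have : 0 < j * (2 * D) := Nat.mul_pos (by omega) (by omega)
        omega
      obtain ⟨u, hu, v, hv, hvd⟩ := ih _ hlt b₁ hb₁m
        (fun h => h0 (by rw [hb₁, mul_coeff_zero, h, mul_zero])) hb₁d
        (fun c hc h => h1 c hc (hb₁ ▸ h.mul_left _)) (by omega) rfl
      have hw : B.natDegree = 2 * (j * D + u) := by rw [hdegB, hu]; ring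
      obtain ⟨z, hz, hz1, hz2⟩ := fin u D true hD (by omega) v hv
      refine ⟨_, hw, z, hz, ?_⟩
      have hfr : f ∣ X ^ (Fintype.card F ^ D + 1) - 1 := by
        rw [← AdjoinRoot.mk_eq_zero, map_sub, map_pow, AdjoinRoot.mk_X, hroot, map_one, sub_self]
      have hj8 : j ≤ 8 := by nlinarith
      rw [hb₁]
      exact mul_dvd_X_pow_sub_one ((hf.coprime_iff_not_dvd).mpr hfb₁).pow_left
        (pow_dvd_two_pow hfr (le_two_pow_lg hj8)) hvd (by simpa using hz1) hz2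
    · have hσσ : ∀ x, RingHom.id F (RingHom.id F x) = x := fun x => rfl
      have hf' : Irreducible f' := H67.dualPoly_irreducible hσσ hfm hf0 hf
      have hf'm : f'.Monic := H67.dualPoly_monic hf0
      have hf'' : dual f' = f := H67.dualPoly_dualPoly hσσ hfm hf0
      have hff' : IsCoprime f f' := (hf.coprime_iff_not_dvd).mpr fun h =>
        heq (eq_of_monic_of_associated hf'm hfm (hf.associated_of_dvd hf' h).symm)
      have hχ' : B = f' ^ j * dual b₁ := by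
        conv_lhs => rw [← hd, hb₁, H67.dualPoly_mul, H67.dualPoly_pow]
      obtain ⟨b₂, hb₂⟩ : f' ^ j ∣ b₁ := by
        have h : f' ^ j ∣ f ^ j * b₁ := hb₁ ▸ ⟨_, hχ'⟩
        exact (hff'.symm.pow (m := j) (n := j)).dvd_of_dvd_mul_left h
      have hB2 : B = (f * f') ^ j * b₂ := by rw [hb₁, hb₂, mul_pow, mul_assoc]
      have hb₂d : dual b₂ = b₂ := by
        have := hd
        rw [hB2, H67.dualPoly_mul, H67.dualPoly_pow, H67.dualPoly_mul, ← hf'def, hf'', mul_comm f'] at this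
        exact mul_left_cancel₀ (pow_ne_zero _ (mul_ne_zero hf.ne_zero hf'.ne_zero)) this
      have hnf : ¬ f ∣ b₂ := fun h => hfb₁ (hb₂ ▸ h.mul_left _)
      have hnf' : ¬ f' ∣ b₂ := by
        rintro ⟨u, hu⟩
        refine hnf ⟨dual u, ?_⟩
        rw [← hb₂d, hu, H67.dualPoly_mul, hf'']
      have hb₂m : b₂.Monic := ((hfm.mul hf'm).pow j).of_mul_monic_left (hB2 ▸ hm)
      set d := f.natDegree with hddef
      have hd1 : 1 ≤ d := hf.natDegree_pos
      have hdegB : B.natDegree = 2 * (j * d) + b₂.natDegree := by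
        rw [hB2, natDegree_mul (pow_ne_zero _ (mul_ne_zero hf.ne_zero hf'.ne_zero)) hb₂m.ne_zero,
          natDegree_pow, natDegree_mul hf.ne_zero hf'.ne_zero, hf'def, H67.dualPoly_natDegree hf0]
        ring
      have hlt : b₂.natDegree < B.natDegree := by
        have : 0 < j * d := Nat.mul_pos (by omega) (by omega)
        omega
      obtain ⟨u, hu, v, hv, hvd⟩ := ih _ hlt b₂ hb₂m
        (fun h => h0 (by rw [hB2, mul_coeff_zero, h, mul_zero])) hb₂d
        (fun c hc h => h1 c hc (hB2 ▸ h.mul_left _)) (by omega) rfl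
      have hw : B.natDegree = 2 * (j * d + u) := by rw [hdegB, hu]; ring
      obtain ⟨z, hz, hz1, hz2⟩ := fin u d false hd1 (by omega) v hv
      refine ⟨_, hw, z, hz, ?_⟩
      have : Module.Finite F (AdjoinRoot f) := hfm.finite_adjoinRoot
      have : Finite (AdjoinRoot f) := Module.finite_of_finite F
      have := Fintype.ofFinite (AdjoinRoot f)
      have hfr : f ∣ X ^ (Fintype.card F ^ d - 1) - 1 := by
        have hfin : Module.finrank F (AdjoinRoot f) = d := finrank_quotient_span_eq_natDegree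
        have hcard : Fintype.card (AdjoinRoot f) = Fintype.card F ^ d := by
          rw [Module.card_eq_pow_finrank (K := F), hfin]
        have hα0 : AdjoinRoot.root f ≠ 0 := by
          intro h
          have h2 : Polynomial.aeval (AdjoinRoot.root f) f = 0 := by
            rw [AdjoinRoot.aeval_eq, AdjoinRoot.mk_self]
          rw [h] at h2
          simp [Polynomial.aeval_def] at h2
          exact hf0 h2
        rw [← AdjoinRoot.mk_eq_zero, map_sub, map_pow, AdjoinRoot.mk_X, ← hcard,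
          FiniteField.pow_card_sub_one_eq_one _ hα0, map_one, sub_self]
      have hfr' : f * f' ∣ X ^ (Fintype.card F ^ d - 1) - 1 := by
        refine hff'.mul_dvd hfr ?_
        have h := H71.SympBlocks.dual_dvd hf (N := Fintype.card F ^ d - 1) (one_mul (1 : F))
          (by rw [map_one]; exact hfr)
        rwa [map_one] at h
      have hj8 : j ≤ 8 := by nlinarith
      rw [hB2]
      exact mul_dvd_X_pow_sub_one
        (((hf.coprime_iff_not_dvd).mpr hnf).mul_left ((hf'.coprime_iff_not_dvd).mpr hnf')).pow_left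
        (pow_dvd_two_pow hfr' (le_two_pow_lg hj8)) hvd (by simpa using hz1) hz2

/-- The order of an isometry of an eight dimensional non-degenerate bilinear form in characteristic two
divides one of the twelve numbers. -/
theorem exists_top {n : Type} [Fintype n] [DecidableEq n] (hn : Fintype.card n = 8) (g : GL n F)
    (B₀ : Matrix n n F) (hB₀ : IsUnit B₀.det)
    (hiso : (g : Matrix n n F).transpose * B₀ * (g : Matrix n n F) = B₀) :
    ∃ z ∈ top, orderOf g ∣ ev (Fintype.card F) z := by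
  classical
  haveI : Fact (Nat.Prime 2) := ⟨Nat.prime_two⟩
  set M : Matrix n n F := (g : Matrix n n F) with hM
  set χ := M.charpoly with hχdef
  have hχm : χ.Monic := Matrix.charpoly_monic _
  obtain ⟨hχ0, hχdual⟩ : χ.coeff 0 ≠ 0 ∧ dual χ = χ := H59.OrthOrder.charpoly_dual M B₀ hB₀ hiso
  have hχd : χ.natDegree = 8 := (Matrix.charpoly_natDegree_eq_dim M).trans hn
  obtain ⟨B, hB, hBn⟩ :=
    (FiniteMultiplicity.of_prime_left (prime_X_sub_C (1 : F)) hχm.ne_zero).exists_eq_pow_mul_and_not_dvd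
  set a := multiplicity (X - C (1 : F)) χ
  have hBm : B.Monic := ((monic_X_sub_C (1 : F)).pow a).of_mul_monic_left (hB ▸ hχm)
  have hBd : dual B = B := by
    have h : dual χ = χ := hχdual
    rw [hB, H67.dualPoly_mul, H67.dualPoly_pow, H2.SpOrder.dual_X_sub_C (one_mul (1 : F))] at h
    exact mul_left_cancel₀ (pow_ne_zero _ (X_sub_C_ne_zero (1 : F))) h
  have hB1 : ∀ c : F, c * c = 1 → ¬ (X - C c) ∣ B := by
    intro c hc
    have : c = 1 := by
      rcases mul_self_eq_one_iff.mp hc with rfl | rfl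
      · rfl
      · exact CharTwo.neg_eq 1
    exact this ▸ hBn
  have hdeg : a + B.natDegree = 8 := by
    rw [← hχd, hB, natDegree_mul (pow_ne_zero _ (X_sub_C_ne_zero (1 : F))) hBm.ne_zero, natDegree_pow,
      natDegree_X_sub_C, mul_one]
  obtain ⟨w, hw, v, hv, hvd⟩ := budget B hBm
    (fun h => hχ0 (by rw [hB, mul_coeff_zero, h, mul_zero])) hBd hB1 (by omega)
  obtain ⟨z, hz, hz1, hz2⟩ := top_closed ⟨4 - w, by omega⟩ v
    (by rwa [show 4 - (4 - w) = w by omega])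
  refine ⟨z, hz, orderOf_dvd_of_pow_eq_one (Units.ext ?_)⟩
  rw [Units.val_pow_eq_pow_val, ← mul_one (ev (Fintype.card F) z), Units.val_one]
  refine H59.OrthOrder.pow_eq_one_of_charpoly_dvd 2 M (N := ev (Fintype.card F) z) (k := 0) ?_
  rw [pow_zero, pow_one, ← hχdef, hB]
  have h1 : (X - C (1 : F)) ^ a ∣ X ^ (2 ^ lg (2 * (4 - w)) * 1) - 1 :=
    pow_dvd_two_pow (by rw [pow_one, map_one]) (by
      have := le_two_pow_lg (j := 2 * (4 - w)) (by omega)
      omega)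
  refine mul_dvd_X_pow_sub_one (((irreducible_X_sub_C (1 : F)).coprime_iff_not_dvd).mpr hBn).pow_left
    h1 hvd ?_ (ev_dvd _ hz2)
  refine (dvd_of_eq ?_).trans (ev_dvd _ hz1)
  rw [ev_eq]
  simp [blk]

end

end Cfsg.Agent.H18.SpecEight
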