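import Cfsg.Agent.H18.SpecEight.Spaces
import Cfsg.Agent.H62.ClassicalEmbeddings
import Cfsg.Agent.H71.PSLBlocks

/-!
Cyclic tori of orders `q ^ d - 1` in plus and `q ^ d + 1` in minus spaces.
-/

set_option autoImplicit false

namespace Cfsg.Agent.H18.SpecEight

open QuadraticMap Module Cfsg.Agent

variable {F : Type*} [Field F] [Fintype F]

theorem has_split {d : ℕ} (hd : 1 ≤ d) : Has F true d (Fintype.card F ^ d - 1) := by
  classical
  obtain ⟨Z, hZ, -⟩ := H71.PSLBlocks.exists_singer (F := F) hd
  let P := H62.glToPlus d Z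
  let φ : GL (Fin d ⊕ Fin d) F ≃* ((Fin d ⊕ Fin d → F) ≃ₗ[F] (Fin d ⊕ Fin d → F)) :=
    Matrix.GeneralLinearGroup.toLin.trans (LinearMap.GeneralLinearGroup.generalLinearEquiv F _)
  refine Has.intro (H4.qPlus d F) (φ P.1) (by simp; ring) (H4.qPlus_nondegenerate d)
    (iff_of_true (H67.hasSing_qPlus d) rfl) (fun v => ?_) ?_
  · rw [H4.coe_qPlus]
    exact P.2 v v
  · rw [MulEquiv.orderOf_eq, Subgroup.orderOf_coe, orderOf_injective _ (H62.glToPlus_injective d), hZ]

/-- A finite group acting by translation leaves sets whose size it divides. -/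
theorem orderOf_dvd_natCard {G : Type*} [Group G] (β : G) (S : Set G)
    (h : ∀ u, u * β ∈ S ↔ u ∈ S) : orderOf β ∣ Nat.card S := by
  have hz : ∀ k : ℤ, ∀ u, u * β ^ k ∈ S ↔ u ∈ S := by
    intro k
    induction k using Int.induction_on with
    | zero => simp
    | succ n ih => intro u; rw [zpow_add_one, ← mul_assoc, h, ih]
    | pred n ih =>
      intro u
      rw [← h (u * β ^ (-(n : ℤ) - 1)), mul_assoc, ← zpow_add_one, sub_add_cancel, ih]
  have hS : ((↑) : G → G ⧸ Subgroup.zpowers β) ⁻¹' (((↑) : G → G ⧸ Subgroup.zpowers β) '' S) = S := by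
    refine Set.Subset.antisymm ?_ (Set.subset_preimage_image _ _)
    rintro u ⟨s, hs, he⟩
    obtain ⟨k, hk⟩ := Subgroup.mem_zpowers_iff.1 (QuotientGroup.eq.1 he)
    have hu : u = s * β ^ k := by rw [hk, mul_inv_cancel_left]
    rw [hu, hz]; exact hs
  conv_rhs => rw [← hS]
  rw [Nat.card_congr (QuotientGroup.preimageMkEquivSubgroupProdSet (Subgroup.zpowers β) _),
    Nat.card_prod, Nat.card_zpowers]
  exact dvd_mul_right _ _

section
variable (K L : Type*) [Field K] [Field L] [Algebra K L] [Fintype K] [Fintype L]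

/-- The norm form of a quadratic extension. -/
noncomputable def normForm (b : Basis (Fin 2) K L) : QuadraticForm K L :=
  linMulLin (LinearMap.proj 0 ∘ₗ LinearMap.proj 0 ∘ₗ (Algebra.leftMulMatrix b).toLinearMap)
      (LinearMap.proj 1 ∘ₗ LinearMap.proj 1 ∘ₗ (Algebra.leftMulMatrix b).toLinearMap) -
    linMulLin (LinearMap.proj 1 ∘ₗ LinearMap.proj 0 ∘ₗ (Algebra.leftMulMatrix b).toLinearMap)
      (LinearMap.proj 0 ∘ₗ LinearMap.proj 1 ∘ₗ (Algebra.leftMulMatrix b).toLinearMap)

variable {K L}

omit [Fintype K] [Fintype L] in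
theorem normForm_eq (b : Basis (Fin 2) K L) (x : L) : normForm K L b x = Algebra.norm K x := by
  rw [Algebra.norm_eq_matrix_det b, Matrix.det_fin_two]
  rfl

omit [Fintype K] [Fintype L] in
theorem normForm_polar_mul (b : Basis (Fin 2) K L) (x w : L) :
    polar (normForm K L b) x (x * w) =
      Algebra.norm K x * (Algebra.norm K (1 + w) - 1 - Algebra.norm K w) := by
  simp only [polar, normForm_eq]
  rw [show x + x * w = x * (1 + w) by ring, map_mul, map_mul]
  ring

theorem normForm_nondegenerate (b : Basis (Fin 2) K L) : (polarBilin (normForm K L b)).Nondegenerate := by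
  classical
  haveI : Module.Finite K L := Module.Finite.of_basis b
  have h : ∀ x, (∀ y, polar (normForm K L b) x y = 0) → x = 0 := by
    intro x hx
    by_contra hx0
    have hN : Algebra.norm K x ≠ 0 := Algebra.norm_ne_zero_iff.2 hx0
    have hadd : ∀ w : L, Algebra.norm K (1 + w) = 1 + Algebra.norm K w := fun w => by
      have h1 := hx (x * w)
      rw [normForm_polar_mul] at h1
      have h2 := (mul_eq_zero.1 h1).resolve_left hN
      linear_combination h2
    let N : L →+* K :=
      { (Algebra.norm K : L →* K) with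
        map_zero' := Algebra.norm_zero
        map_add' := fun u v => by
          by_cases hu : u = 0
          · subst hu; simp
          · show Algebra.norm K (u + v) = Algebra.norm K u + Algebra.norm K v
            rw [show u + v = u * (1 + v * u⁻¹) by field_simp, map_mul, hadd, mul_add, mul_one,
              ← map_mul]
            congr 2
            field_simp }
    have hle := Fintype.card_le_of_injective N N.injective
    rw [Module.card_eq_pow_finrank (K := K) (V := L), finrank_eq_card_basis b, Fintype.card_fin] at hle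
    have hK : 2 ≤ Fintype.card K := Fintype.one_lt_card
    nlinarith
  exact ⟨h, fun y hy => h y fun x => (polar_comm _ _ _).trans (hy x)⟩

omit [Fintype L] in
theorem exists_norm_one (hL : Fintype.card K ^ 2 = Nat.card L) [Finite L] [Module.Finite K L] :
    ∃ β : Lˣ, orderOf β = Fintype.card K + 1 ∧ Algebra.norm K (β : L) = 1 := by
  obtain ⟨ζ, hζ⟩ := IsCyclic.exists_generator (α := Lˣ)
  have hfr : finrank K L = 2 := by
    have := Fintype.ofFinite L
    have h := Module.card_eq_pow_finrank (K := K) (V := L)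
    rw [← Nat.card_eq_fintype_card, ← hL] at h
    exact (Nat.pow_right_injective Fintype.one_lt_card h).symm
  have hK2 : 2 ≤ Fintype.card K := Fintype.one_lt_card
  have hζo : orderOf ζ = (Fintype.card K + 1) * (Fintype.card K - 1) := by
    rw [orderOf_eq_card_of_forall_mem_zpowers hζ, Nat.card_units, ← hL]
    obtain ⟨k, hk⟩ : ∃ k, Fintype.card K = k + 1 := ⟨Fintype.card K - 1, by omega⟩
    rw [hk, Nat.add_sub_cancel]
    have : (k + 1) ^ 2 = (k + 1 + 1) * k + 1 := by ring
    omega
  have hβo : orderOf (ζ ^ (Fintype.card K - 1)) = Fintype.card K + 1 := by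
    rw [orderOf_pow' _ (by omega), hζo, Nat.gcd_mul_left_left, Nat.mul_div_cancel _ (by omega)]
  refine ⟨ζ ^ (Fintype.card K - 1), hβo, (algebraMap K L).injective ?_⟩
  rw [map_one, FiniteField.algebraMap_norm_eq_pow_sum, hfr, Nat.card_eq_fintype_card,
    Finset.sum_range_succ, Finset.sum_range_succ, Finset.sum_range_zero, zero_add, pow_zero, pow_one,
    ← Units.val_pow_eq_pow_val, add_comm, ← hβo, pow_orderOf_eq_one, Units.val_one]

end

theorem has_nonsplit [CharP F 2] {d : ℕ} (hd : 1 ≤ d) : Has F false d (Fintype.card F ^ d + 1) := by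
  classical
  haveI : Fact (Nat.Prime 2) := ⟨Nat.prime_two⟩
  have : NeZero d := ⟨by omega⟩
  let K := FiniteField.Extension F 2 d
  have := Fintype.ofFinite K
  have hfr : finrank F K = d := FiniteField.finrank_extension F 2 d
  have hcard : Fintype.card K = Fintype.card F ^ d := by
    rw [Module.card_eq_pow_finrank (K := F), hfr]
  have : CharP K 2 := charP_of_injective_algebraMap (algebraMap F K).injective 2
  let L := FiniteField.Extension K 2 2
  have := Fintype.ofFinite L
  have hfr2 : finrank K L = 2 := FiniteField.finrank_extension K 2 2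
  let _alg : Algebra F L := ((algebraMap K L).comp (algebraMap F K)).toAlgebra
  haveI : IsScalarTower F K L := IsScalarTower.of_algebraMap_eq fun x => rfl
  obtain ⟨β, hβo, hβn⟩ := exists_norm_one (K := K) (L := L) (by
    rw [Nat.card_eq_fintype_card, Module.card_eq_pow_finrank (K := K) (V := L), hfr2])
  let b : Basis (Fin 2) K L := Module.finBasisOfFinrankEq K L hfr2
  let T : K →ₗ[F] F := Algebra.trace F K
  let Q : QuadraticForm F L := T.compQuadraticMap' (normForm K L b)
  have hQapp : ∀ x, Q x = T (Algebra.norm K x) := fun x => by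
    show T (normForm K L b x) = _
    rw [normForm_eq]
  have hQpol : ∀ x y, polar Q x y = T (polar (normForm K L b) x y) := fun x y => by
    simp only [polar, hQapp, normForm_eq, map_sub]
  have hQ : (polarBilin Q).Nondegenerate := by
    have h : ∀ x, (∀ y, polar Q x y = 0) → x = 0 := fun x hx =>
      H4.eq_zero_of_polar (normForm_nondegenerate b) fun y => by
        refine (traceForm_nondegenerate F K).1 _ fun c => ?_
        rw [Algebra.traceForm_apply, mul_comm]
        have h1 := hx (c • y)
        rwa [hQpol, polar_smul_right, smul_eq_mul] at h1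
    exact ⟨h, fun y hy => h y fun x => (polar_comm _ _ _).trans (hy x)⟩
  have hV : finrank F L = 2 * d := by
    rw [← Module.finrank_mul_finrank F K L, hfr, hfr2, mul_comm]
  let g : L ≃ₗ[F] L :=
    { LinearMap.mulLeft F (β : L) with
      invFun := fun x => ((β⁻¹ : Lˣ) : L) * x
      left_inv := fun x => by simp
      right_inv := fun x => by simp }
  have hgapp : ∀ x, g x = (β : L) * x := fun x => rfl
  have hg : ∀ x, Q (g x) = Q x := fun x => by
    rw [hQapp, hQapp, hgapp, map_mul, hβn, one_mul]
  have hgo : orderOf g = Fintype.card F ^ d + 1 := by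
    rw [← hcard, ← hβo]
    refine orderOf_eq_orderOf_iff.2 fun n => ?_
    have hp : ∀ x, (g ^ n) x = ((β ^ n : Lˣ) : L) * x := by
      induction n with
      | zero => simp
      | succ n ih => intro x; rw [pow_succ, LinearEquiv.mul_apply, ih, hgapp, pow_succ,
          Units.val_mul, mul_assoc]
    refine ⟨fun h => Units.ext ?_, fun h => LinearEquiv.ext fun x => by rw [hp, h]; simp⟩
    have h1 := hp 1
    rw [h, mul_one] at h1
    exact h1.symm
  refine Has.intro Q g hV hQ (iff_of_false ?_ (by simp)) hg hgo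
  rintro ⟨W, hW, hWd⟩
  obtain ⟨e, he⟩ := H4.isom_qPlus_of_singular hQ hV W hW hWd
  let E : {x : L // Q x = 0} ≃ {v : Fin d ⊕ Fin d → F // Cfsg.quadFormPlus d F v = 0} :=
    e.toEquiv.subtypeEquiv fun x => by
      rw [← H4.coe_qPlus]
      show _ ↔ H4.qPlus d F (e x) = 0
      rw [he]
  have hcz := H4.card_qPlus_zeros (F := F) d
  rw [← Nat.card_congr E] at hcz
  set S : Set Lˣ := {u | Q (u : L) = 0}
  have hdvd : orderOf β ∣ Nat.card S := orderOf_dvd_natCard β S fun u => by
    show Q ((u * β : Lˣ) : L) = 0 ↔ _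
    rw [Units.val_mul, mul_comm, ← hgapp, hg]; rfl
  rw [hβo, hcard] at hdvd
  let E2 : {x : L // Q x = 0} ≃ Option S :=
    { toFun := fun x => if h : (x : L) = 0 then none else some ⟨Units.mk0 _ h, x.2⟩
      invFun := fun o => o.elim ⟨0, map_zero Q⟩ fun u => ⟨((u : Lˣ) : L), u.2⟩
      left_inv := fun x => by
        by_cases h : (x : L) = 0
        · simp only [h, dif_pos]; exact Subtype.ext h.symm
        · simp only [h, dif_neg, not_false_eq_true]; rfl
      right_inv := fun o => by
        rcases o with _ | u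
        · simp
        · simp }
  rw [Nat.card_congr E2, Finite.card_option] at hcz
  set q := Fintype.card F with hq
  have hq2 : 2 ≤ q := Fintype.one_lt_card
  have hq3 : q ≠ 3 := fun h => by
    obtain ⟨e, -, he⟩ := FiniteField.card F 2
    rw [← hq, h] at he
    have : 2 ∣ 3 := he ▸ dvd_pow_self 2 e.ne_zero
    omega
  obtain ⟨d', rfl⟩ : ∃ d', d = d' + 1 := ⟨d - 1, by omega⟩
  obtain ⟨k, hk⟩ := hdvd
  rw [hk] at hcz
  push_cast at hcz
  set a : ℤ := (q : ℤ) ^ d' with ha
  have ha1 : 1 ≤ a := one_le_pow₀ (by exact_mod_cast Nat.one_le_of_lt hq2)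
  have hqz : (2 : ℤ) ≤ q := by exact_mod_cast hq2
  have hqz3 : (q : ℤ) ≠ 3 := by exact_mod_cast hq3
  have e1 : ((q : ℤ) * a + 1) * k = ((q : ℤ) * a - 1) * (a + 1) := by
    refine mul_left_cancel₀ (show (q : ℤ) ≠ 0 by omega) ?_
    rw [ha]
    linear_combination hcz
  -- `q a + 1` would divide `2 (a + 1)`
  have h2 : ((q : ℤ) * a + 1) * ((a + 1) - k) = 2 * (a + 1) := by linear_combination -e1
  have hpos : 0 < (q : ℤ) * a + 1 := by positivity
  rcases le_or_gt ((a + 1) - (k : ℤ)) 0 with h | h
  · nlinarith
  · rcases eq_or_lt_of_le (Int.add_one_le_of_lt h) with h' | h'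
    · rw [← h', zero_add, mul_one] at h2
      have h3 : ((q : ℤ) - 2) * a = 1 := by linear_combination h2
      rcases Int.eq_one_or_neg_one_of_mul_eq_one h3 with h4 | h4 <;> omega
    · nlinarith

end Cfsg.Agent.H18.SpecEight
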