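import Cfsg.Agent.H18.SpecEight.Spaces

/-!
Unipotent isometries of orders two, four and eight.
-/

set_option autoImplicit false

namespace Cfsg.Agent.H18.SpecEight

open QuadraticMap Module Cfsg.Agent

variable {F : Type*} [Field F] [CharP F 2]

theorem endo_sq {V : Type*} [AddCommGroup V] [Module F V] (M : Module.End F V) :
    (1 + M) * (1 + M) = 1 + M * M := by
  have h : M + M = 0 := by
    refine LinearMap.ext fun v => ?_
    have : (2 : F) • M v = M v + M v := two_smul F _
    rw [CharTwo.two_eq_zero, zero_smul] at this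
    exact this.symm
  calc (1 + M) * (1 + M) = 1 + (M + M) + M * M := by noncomm_ring
    _ = 1 + M * M := by rw [h, add_zero]

theorem endo_pow_two_pow {V : Type*} [AddCommGroup V] [Module F V] (N : Module.End F V) (e : ℕ) :
    (1 + N) ^ 2 ^ e = 1 + N ^ 2 ^ e := by
  induction e with
  | zero => simp
  | succ e ih => rw [pow_succ, pow_mul, ih, pow_two, endo_sq, pow_mul, ← pow_two]

theorem exists_isometry_order {V : Type*} [AddCommGroup V] [Module F V] (Q : QuadraticForm F V)
    (N : Module.End F V) (e : ℕ) (hQ : ∀ v, Q (v + N v) = Q v) (hz : N ^ 2 ^ (e + 1) = 0)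
    (hn : N ^ 2 ^ e ≠ 0) :
    ∃ g : V ≃ₗ[F] V, (∀ v, Q (g v) = Q v) ∧ orderOf g = 2 ^ (e + 1) := by
  haveI : Fact (Nat.Prime 2) := ⟨Nat.prime_two⟩
  have h1 : (1 + N) ^ 2 ^ (e + 1) = 1 := by rw [endo_pow_two_pow, hz, add_zero]
  have h2 : ¬ (1 + N) ^ 2 ^ e = 1 := by rwa [endo_pow_two_pow, add_eq_left]
  have ho : orderOf (1 + N) = 2 ^ (e + 1) := orderOf_eq_prime_pow h2 h1
  obtain ⟨U, hU⟩ := IsUnit.of_pow_eq_one h1 (pow_ne_zero _ two_ne_zero)
  let φ : (Module.End F V)ˣ ≃* (V ≃ₗ[F] V) := LinearMap.GeneralLinearGroup.generalLinearEquiv F V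
  refine ⟨φ U, fun v => ?_, ?_⟩
  · have : φ U v = v + N v := by
      show (U : Module.End F V) v = _
      rw [hU]; rfl
    rw [this, hQ]
  · rw [MulEquiv.orderOf_eq, ← orderOf_units, hU, ho]

/-- The binary map. -/
def N0 : Module.End F ((Fin 0 ⊕ Fin 0) ⊕ Fin 2 → F) where
  toFun v := Sum.elim 0 ![v (.inr 1), 0]
  map_add' v w := funext fun i => by
    rcases i with (i | i) | i
    · exact i.elim0
    · exact i.elim0
    · fin_cases i <;> simp
  map_smul' c v := funext fun i => by
    rcases i with (i | i) | i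
    · exact i.elim0
    · exact i.elim0
    · fin_cases i <;> simp

/-- The map in dimension four. -/
def N1 (c : F) : Module.End F ((Fin 1 ⊕ Fin 1) ⊕ Fin 2 → F) where
  toFun v := Sum.elim (Sum.elim ![v (.inr 0) + v (.inr 1) + c * v (.inl (.inr 0))] 0)
    ![v (.inr 1), v (.inl (.inr 0))]
  map_add' v w := funext fun i => by
    rcases i with (i | i) | i <;> fin_cases i <;> simp <;> ring
  map_smul' d v := funext fun i => by
    rcases i with (i | i) | i <;> fin_cases i <;> simp <;> ring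

/-- The map in dimension six. -/
def N2 (c : F) : Module.End F ((Fin 2 ⊕ Fin 2) ⊕ Fin 2 → F) where
  toFun v := Sum.elim (Sum.elim ![v (.inl (.inl 1)),
      v (.inr 0) + v (.inr 1) + c * (v (.inl (.inr 1)) + v (.inl (.inr 0)))] ![0, v (.inl (.inr 0))])
    ![v (.inr 1), v (.inl (.inr 1)) + v (.inl (.inr 0))]
  map_add' v w := funext fun i => by
    rcases i with (i | i) | i <;> fin_cases i <;> simp <;> ring
  map_smul' d v := funext fun i => by
    rcases i with (i | i) | i <;> fin_cases i <;> simp <;> ring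

theorem exists_order_two (c : F) :
    ∃ g : ((Fin 0 ⊕ Fin 0) ⊕ Fin 2 → F) ≃ₗ[F] _, (∀ v, H4.qMinus 0 F 1 c (g v) = H4.qMinus 0 F 1 c v) ∧
      orderOf g = 2 := by
  refine exists_isometry_order (H4.qMinus 0 F 1 c) N0 0 (fun v => ?_) ?_ ?_
  · have h2 : (2 : F) = 0 := CharTwo.two_eq_zero
    simp [H4.coe_qMinus, Cfsg.quadFormMinus, N0]
    linear_combination (v (.inr 0) * v (.inr 1) + v (.inr 1) ^ 2) * h2
  · refine LinearMap.ext fun v => funext fun i => ?_
    rcases i with (i | i) | i <;> fin_cases i <;> simp [N0, pow_succ]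
  · intro h
    have := congrFun (LinearMap.congr_fun h (Pi.single (.inr 1) 1)) (.inr 0)
    simp [N0] at this

theorem exists_order_four (c : F) :
    ∃ g : ((Fin 1 ⊕ Fin 1) ⊕ Fin 2 → F) ≃ₗ[F] _, (∀ v, H4.qMinus 1 F 1 c (g v) = H4.qMinus 1 F 1 c v) ∧
      orderOf g = 4 := by
  refine exists_isometry_order (H4.qMinus 1 F 1 c) (N1 c) 1 (fun v => ?_) ?_ ?_
  · have h2 : (2 : F) = 0 := CharTwo.two_eq_zero
    simp [H4.coe_qMinus, Cfsg.quadFormMinus, N1]
    linear_combination ((v (.inr 0) + v (.inr 1)) * v (.inl (.inr 0)) + c * v (.inl (.inr 0)) ^ 2 +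
      v (.inr 0) * v (.inr 1) + v (.inr 1) ^ 2 + c * v (.inr 1) * v (.inl (.inr 0))) * h2
  · refine LinearMap.ext fun v => funext fun i => ?_
    rcases i with (i | i) | i <;> fin_cases i <;> simp [N1, pow_succ]
  · intro h
    have := congrFun (LinearMap.congr_fun h (Pi.single (.inl (.inr 0)) 1)) (.inr 0)
    simp [N1, pow_succ] at this

theorem exists_order_eight (c : F) :
    ∃ g : ((Fin 2 ⊕ Fin 2) ⊕ Fin 2 → F) ≃ₗ[F] _, (∀ v, H4.qMinus 2 F 1 c (g v) = H4.qMinus 2 F 1 c v) ∧
      orderOf g = 8 := by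
  refine exists_isometry_order (H4.qMinus 2 F 1 c) (N2 c) 2 (fun v => ?_) ?_ ?_
  · have h2 : (2 : F) = 0 := CharTwo.two_eq_zero
    simp [H4.coe_qMinus, Cfsg.quadFormMinus, N2, Fin.sum_univ_two]
    linear_combination (v (.inl (.inl 1)) * v (.inl (.inr 0)) +
      (v (.inr 0) + v (.inr 1)) * (v (.inl (.inr 1)) + v (.inl (.inr 0))) +
      c * (v (.inl (.inr 1)) + v (.inl (.inr 0))) ^ 2 + v (.inr 0) * v (.inr 1) + v (.inr 1) ^ 2 +
      c * v (.inr 1) * (v (.inl (.inr 1)) + v (.inl (.inr 0)))) * h2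
  · refine LinearMap.ext fun v => funext fun i => ?_
    rcases i with (i | i) | i <;> fin_cases i <;> simp [N2, pow_succ]
  · intro h
    have := congrFun (LinearMap.congr_fun h (Pi.single (.inl (.inr 0)) 1)) (.inl (.inl 1))
    simp [N2, pow_succ] at this

variable [Fintype F]

omit [CharP F 2] [Fintype F] in
theorem hasSing_qMinus_zero (m : ℕ) : H67.HasSing (H4.qMinus m F 1 0) (m + 1) := by
  let f : ((Fin m → F) × F) →ₗ[F] ((Fin m ⊕ Fin m) ⊕ Fin 2 → F) :=
    { toFun := fun p => Sum.elim (Sum.elim p.1 0) ![0, p.2]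
      map_add' := fun p p' => funext fun i => by
        rcases i with (i | i) | i
        · rfl
        · simp
        · fin_cases i <;> simp
      map_smul' := fun d p => funext fun i => by
        rcases i with (i | i) | i
        · rfl
        · simp
        · fin_cases i <;> simp }
  have h := H67.hasSing_of_range (Q := H4.qMinus m F 1 0) f
    (fun p p' h => Prod.ext (funext fun i => congrFun h (.inl (.inl i))) (congrFun h (.inr 1)))
    (fun p => by simp [H4.coe_qMinus, Cfsg.quadFormMinus, f])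
  rwa [finrank_prod, finrank_fintype_fun_eq_card, Fintype.card_fin, finrank_self] at h

theorem exists_anisotropic : ∃ c : F, ∀ t : F, t ^ 2 + t + c ≠ 0 := by
  classical
  by_contra h
  push Not at h
  have hs : Function.Surjective (fun t : F => t ^ 2 + t) := fun c => by
    obtain ⟨t, ht⟩ := h c
    exact ⟨t, CharTwo.add_eq_zero.1 ht⟩
  have := (Finite.injective_iff_surjective.2 hs) (a₁ := 0) (a₂ := 1)
    (by simp [CharTwo.add_self_eq_zero])
  exact zero_ne_one this

theorem has_of_any {d N : ℕ} (h : ∀ c : F, ∃ g : ((Fin d ⊕ Fin d) ⊕ Fin 2 → F) ≃ₗ[F] _,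
    (∀ v, H4.qMinus d F 1 c (g v) = H4.qMinus d F 1 c v) ∧ orderOf g = N) (s : Bool) :
    Has F s (d + 1) N := by
  have hnd : ∀ c : F, (polarBilin (H4.qMinus d F 1 c)).Nondegenerate := fun c =>
    H4.qMinus_nondegenerate (by
      rw [one_pow, show (4 : F) = 2 * 2 by norm_num, CharTwo.two_eq_zero, zero_mul, zero_mul, sub_zero]
      exact one_ne_zero) d
  have hfr : finrank F ((Fin d ⊕ Fin d) ⊕ Fin 2 → F) = 2 * (d + 1) := by simp; ring
  cases s
  · obtain ⟨c, hc⟩ := exists_anisotropic (F := F)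
    obtain ⟨g, hg, hN⟩ := h c
    exact Has.intro _ g hfr (hnd c)
      (iff_of_false (H67.not_hasSing_qMinus d (H67.aniso_of_one hc)) (by simp)) hg hN
  · obtain ⟨g, hg, hN⟩ := h 0
    exact Has.intro _ g hfr (hnd 0) (iff_of_true (hasSing_qMinus_zero d) rfl) hg hN

theorem has_two (s : Bool) : Has F s 1 2 := has_of_any exists_order_two s

theorem has_four (s : Bool) : Has F s 2 4 := has_of_any exists_order_four s

theorem has_eight (s : Bool) : Has F s 3 8 := has_of_any exists_order_eight s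

end Cfsg.Agent.H18.SpecEight
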