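import Cfsg.Agent.H18.SpecEight.Bound
import Cfsg.Agent.H18.SpecEight.Tori
import Cfsg.Agent.H18.SpecEight.Unipotent
import Cfsg.Agent.H67.Embed

/-!
`PSp₈(q)` and `O₈⁻(q)` have the same element orders for even `q`.
-/

set_option autoImplicit false

namespace Cfsg.Agent.H18.SpecEight

open QuadraticMap Module Matrix Cfsg.Agent

variable {F : Type*} [Field F] [Fintype F] [CharP F 2]

theorem even_card : Even (Fintype.card F) := by
  haveI : Fact (Nat.Prime 2) := ⟨Nat.prime_two⟩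
  obtain ⟨e, -, he⟩ := FiniteField.card F 2
  rw [he]
  exact Nat.even_pow.2 ⟨even_two, e.ne_zero⟩

theorem coprime_of_dvd_two {x y : ℕ} (hx : Odd x) (h : ∀ k, k ∣ x → k ∣ y → k ∣ 2) :
    Nat.Coprime x y := by
  have h2 := h _ (Nat.gcd_dvd_left x y) (Nat.gcd_dvd_right x y)
  rcases (Nat.dvd_prime Nat.prime_two).1 h2 with h1 | h1
  · exact h1
  · exact absurd (h1 ▸ Nat.gcd_dvd_left x y) (by rw [← even_iff_two_dvd]; simpa using hx)

theorem Has.mul {s t : Bool} {d e N M : ℕ} (h : Has F s d N) (h' : Has F t e M)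
    (hc : Nat.Coprime N M) : Has F (s == t) (d + e) (N * M) :=
  hc.lcm_eq_mul ▸ h.prod h'

omit [Fintype F] [CharP F 2] in
theorem Has.cast {s s' : Bool} {d d' N N' : ℕ} (h : Has F s d N) (hs : s = s') (hd : d = d')
    (hN : N = N') : Has F s' d' N' := hs ▸ hd ▸ hN ▸ h

/-- Each maximal number is realised in an eight dimensional minus space. -/
theorem has_top : ∀ z ∈ top, Has F false 4 (ev (Fintype.card F) z) := by
  set q := Fintype.card F with hq
  have hev : Even q := even_card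
  have hq2 : 2 ≤ q := Fintype.one_lt_card
  have o1 : Odd (q + 1) := hev.add_one
  have o2 : Odd (q ^ 2 + 1) := (Nat.even_pow.2 ⟨hev, two_ne_zero⟩).add_one
  have o3 : Odd (q ^ 3 + 1) := (Nat.even_pow.2 ⟨hev, by norm_num⟩).add_one
  have oa : Odd (q - 1) := Nat.Even.sub_odd (by omega) hev odd_one
  have og : Odd (q ^ 3 - 1) :=
    Nat.Even.sub_odd (Nat.one_le_pow _ _ (by omega)) (Nat.even_pow.2 ⟨hev, by norm_num⟩) odd_one
  have a2 : q - 1 ∣ q ^ 2 - 1 := by simpa using Nat.sub_dvd_pow_sub_pow q 1 2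
  have a3 : q - 1 ∣ q ^ 3 - 1 := by simpa using Nat.sub_dvd_pow_sub_pow q 1 3
  have b2 : q + 1 ∣ q ^ 2 - 1 := ⟨q - 1, by
    obtain ⟨k, hk⟩ : ∃ k, q = k + 1 := ⟨q - 1, by omega⟩
    rw [hk, Nat.add_sub_cancel]
    have : (k + 1) ^ 2 = (k + 1 + 1) * k + 1 := by ring
    omega⟩
  have b3 : q + 1 ∣ q ^ 3 + 1 := ⟨q * (q - 1) + 1, by
    obtain ⟨k, hk⟩ : ∃ k, q = k + 1 := ⟨q - 1, by omega⟩
    rw [hk, Nat.add_sub_cancel]; ring⟩
  have p2 : 1 ≤ q ^ 2 := Nat.one_le_pow _ _ (by omega)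
  have p3 : 1 ≤ q ^ 3 := Nat.one_le_pow _ _ (by omega)
  have cab : Nat.Coprime (q + 1) (q - 1) := coprime_of_dvd_two o1 fun k h1 h2 => by
    simpa [show q + 1 - (q - 1) = 2 by omega] using Nat.dvd_sub h1 h2
  have c2m : Nat.Coprime (q ^ 2 + 1) (q ^ 2 - 1) := coprime_of_dvd_two o2 fun k h1 h2 => by
    simpa [show q ^ 2 + 1 - (q ^ 2 - 1) = 2 by omega] using Nat.dvd_sub h1 h2
  have cgb : Nat.Coprime (q + 1) (q ^ 3 - 1) := coprime_of_dvd_two o1 fun k h1 h2 => by
    simpa [show q ^ 3 + 1 - (q ^ 3 - 1) = 2 by omega] using Nat.dvd_sub (h1.trans b3) h2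
  have cha : Nat.Coprime (q ^ 3 + 1) (q - 1) := coprime_of_dvd_two o3 fun k h1 h2 => by
    simpa [show q ^ 3 + 1 - (q ^ 3 - 1) = 2 by omega] using Nat.dvd_sub h1 (h2.trans a3)
  have cca : Nat.Coprime (q ^ 2 + 1) (q - 1) := c2m.coprime_dvd_right a2
  have ccb : Nat.Coprime (q ^ 2 + 1) (q + 1) := c2m.coprime_dvd_right b2
  have c2 : ∀ {x : ℕ}, Odd x → ∀ k, Nat.Coprime x (2 ^ k) := fun hx k =>
    (Nat.coprime_two_right.2 hx).pow_right k
  have nb : Has F false 1 (q + 1) := by simpa using has_nonsplit (F := F) (d := 1) le_rfl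
  have nc : Has F false 2 (q ^ 2 + 1) := has_nonsplit (d := 2) (by norm_num)
  have nh : Has F false 3 (q ^ 3 + 1) := has_nonsplit (d := 3) (by norm_num)
  have nf : Has F false 4 (q ^ 4 + 1) := has_nonsplit (d := 4) (by norm_num)
  have sa : Has F true 1 (q - 1) := by simpa using has_split (F := F) (d := 1) le_rfl
  have sab : Has F true 2 (q ^ 2 - 1) := has_split (d := 2) (by norm_num)
  have sg : Has F true 3 (q ^ 3 - 1) := has_split (d := 3) (by norm_num)
  have e2 : q ^ 2 - 1 = (q - 1) * (q + 1) := by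
    have := Nat.sq_sub_sq q 1
    rw [one_pow] at this
    rw [this, mul_comm]
  have e3 : q ^ 3 - 1 = (q - 1) * (q ^ 2 + q + 1) := by
    obtain ⟨k, hk⟩ : ∃ k, q = k + 1 := ⟨q - 1, by omega⟩
    rw [hk, Nat.add_sub_cancel]
    have : (k + 1) ^ 3 = k * ((k + 1) ^ 2 + (k + 1) + 1) + 1 := by ring
    omega
  have e3' : q ^ 3 + 1 = (q + 1) * (q * (q - 1) + 1) := by
    obtain ⟨k, hk⟩ : ∃ k, q = k + 1 := ⟨q - 1, by omega⟩
    rw [hk, Nat.add_sub_cancel]; ring
  intro z hz
  simp only [top, List.mem_cons, List.not_mem_nil, or_false] at hz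
  rcases hz with rfl | rfl | rfl | rfl | rfl | rfl | rfl | rfl | rfl | rfl | rfl | rfl <;>
    rw [ev_eq] <;> simp
  · exact nf
  · refine (nc.mul sab c2m).cast rfl rfl ?_
    rw [e2]; ring
  · refine (nb.mul sg cgb).cast rfl rfl ?_
    rw [e3]; ring
  · refine (nh.mul sa cha).cast rfl rfl ?_
    rw [e3']; ring
  · refine ((has_two (F := F) false).mul sg (c2 og 1).symm).cast rfl rfl ?_
    rw [e3]; ring
  · refine (nh.mul (has_two (F := F) true) (c2 o3 1)).cast rfl rfl ?_
    rw [e3']; ring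
  · refine ((nc.mul sa cca).mul (has_two (F := F) true) (c2 (o2.mul oa) 1)).cast rfl rfl ?_
    ring
  · refine ((has_two (F := F) false).mul (nc.mul nb ccb) (c2 (o2.mul o1) 1).symm).cast rfl rfl ?_
    ring
  · refine ((nb.mul sa cab).mul (has_four (F := F) true) (c2 (o1.mul oa) 2)).cast rfl rfl ?_
    ring
  · refine (nc.mul (has_four (F := F) true) (c2 o2 2)).cast rfl rfl ?_
    ring
  · refine (sa.mul (has_eight (F := F) false) (c2 oa 3)).cast rfl rfl ?_
    ring
  · refine (nb.mul (has_eight (F := F) true) (c2 o1 3)).cast rfl rfl ?_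
    ring

/-- The common spectrum. -/
def spectrum8 (q : ℕ) : Set ℕ := {n | ∃ z ∈ top, n ∣ ev q z}

variable {a b : F}

omit [Fintype F] in
theorem a_ne_zero (hd : a ^ 2 - 4 * b ≠ 0) : a ≠ 0 := by
  rintro rfl
  apply hd
  linear_combination -2 * b * (CharTwo.two_eq_zero : (2 : F) = 0)

variable (han : ∀ z₁ z₂ : F, z₁ ^ 2 + a * z₁ * z₂ + b * z₂ ^ 2 = 0 → z₁ = 0 ∧ z₂ = 0)
include han

omit [CharP F 2] in
theorem disc_ne : a ^ 2 - 4 * b ≠ 0 :=
  H4.disc_ne_zero_of_anisotropic han fun c h2 => H4.exists_sq_eq h2 c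

omit [CharP F 2] in
theorem isometry_order_mem [CharP F 2] (g : ↥(Cfsg.isometryGroup F (Cfsg.quadFormMinus 3 F a b))) :
    orderOf g ∈ spectrum8 (Fintype.card F) := by
  classical
  let Q := H4.qMinus 3 F a b
  have hQ : (polarBilin Q).Nondegenerate := H4.qMinus_nondegenerate (disc_ne han) 3
  have hv : ∀ v, Q ((g.1 : Matrix _ _ F) *ᵥ v) = Q v := fun v => by
    simp only [Q, H4.coe_qMinus]; exact g.2 v v
  have hc : (polarBilin Q).compl₁₂ (Matrix.toLin' (g.1 : Matrix _ _ F)) (Matrix.toLin' (g.1 : Matrix _ _ F)) =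
      polarBilin Q := by
    ext u v
    simp only [LinearMap.compl₁₂_apply, polarBilin_apply_apply, Matrix.toLin'_apply, polar,
      ← Matrix.mulVec_add, hv, LinearMap.coe_comp, Function.comp_apply]
  have h2 := congrArg (LinearMap.toMatrix₂' F) hc
  rw [LinearMap.toMatrix₂'_compl₁₂, LinearMap.toMatrix'_toLin'] at h2
  obtain ⟨z, hz, hzd⟩ := exists_top (by simp) g.1 (LinearMap.toMatrix₂' F (polarBilin Q))
    (isUnit_iff_ne_zero.mpr (Matrix.nondegenerate_iff_det_ne_zero.mp
      (LinearMap.nondegenerate_toMatrix₂'_iff.mpr hQ))) h2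
  exact ⟨z, hz, by rwa [Subgroup.orderOf_coe] at hzd⟩

theorem exists_isometry_of_mem {n : ℕ} (hn : n ∈ spectrum8 (Fintype.card F)) :
    ∃ g : ↥(Cfsg.isometryGroup F (Cfsg.quadFormMinus 3 F a b)), orderOf g = n := by
  classical
  obtain ⟨z, hz, hzd⟩ := hn
  obtain ⟨Q, g, hQ, hs, hg, hN⟩ := (has_top (F := F) z hz).of_dvd hzd
  obtain ⟨e, he⟩ := H67.isom_of_type (Q' := H4.qMinus 3 F a b) hQ
    (H4.qMinus_nondegenerate (disc_ne han) 3) (m := 4) (by simp) (by simp)
    (iff_of_false (fun h => by simpa using hs.1 h) (H67.not_hasSing_qMinus 3 han))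
  let φ : GL ((Fin 3 ⊕ Fin 3) ⊕ Fin 2) F ≃*
      (((Fin 3 ⊕ Fin 3) ⊕ Fin 2 → F) ≃ₗ[F] ((Fin 3 ⊕ Fin 3) ⊕ Fin 2 → F)) :=
    Matrix.GeneralLinearGroup.toLin.trans (LinearMap.GeneralLinearGroup.generalLinearEquiv F _)
  set h := φ.symm (transport e g) with hh
  have happ : ∀ v, (h : Matrix _ _ F) *ᵥ v = e (g (e.symm v)) := fun v => by
    have h1 : φ h v = transport e g v := by rw [hh, MulEquiv.apply_symm_apply]
    exact h1
  refine ⟨⟨h, fun v _ => ?_⟩, ?_⟩
  · show Cfsg.quadFormMinus 3 F a b ((h : Matrix _ _ F) *ᵥ v) = Cfsg.quadFormMinus 3 F a b v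
    rw [happ, ← H4.coe_qMinus, he, hg, ← he, e.apply_symm_apply]
  · rw [← Subgroup.orderOf_coe]
    show orderOf (φ.symm (transport e g)) = n
    rw [MulEquiv.orderOf_eq, orderOf_transport, hN]

omit han

theorem orderOf_mk_sp (g : Matrix.symplecticGroup (Fin 4) F) :
    orderOf (QuotientGroup.mk g : Cfsg.PSp 4 F) = orderOf g := by
  refine orderOf_eq_orderOf_iff.2 fun n => ⟨fun h => ?_, fun h => ?_⟩
  · obtain ⟨c, hc⟩ := (H71.SympBlocks.mk_pow_eq_one_iff (by norm_num) g n).1 h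
    have hc2 := H71.SympBlocks.scalar_sq (g ^ n) (by simpa using hc)
    have hc1 : c = 1 := by
      rcases mul_self_eq_one_iff.mp hc2 with rfl | rfl
      · rfl
      · exact CharTwo.neg_eq 1
    exact Subtype.ext (by simpa [hc1] using hc)
  · rw [← QuotientGroup.mk_pow, h, QuotientGroup.mk_one]

theorem symplectic_order_mem (g : Matrix.symplecticGroup (Fin 4) F) :
    orderOf g ∈ spectrum8 (Fintype.card F) := by
  classical
  have hdet : IsUnit (g.1).det := SymplecticGroup.symplectic_det g.2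
  let G : GL (Fin 4 ⊕ Fin 4) F := Matrix.GeneralLinearGroup.mk'' g.1 hdet
  obtain ⟨z, hz, hzd⟩ := exists_top (by simp) G (Matrix.J (Fin 4) F) (Matrix.isUnit_det_J (Fin 4) F)
    (SymplecticGroup.mem_iff'.1 g.2)
  have : orderOf G = orderOf g := orderOf_eq_orderOf_iff.2 fun n => by
    rw [Units.ext_iff, Subtype.ext_iff, Units.val_pow_eq_pow_val, SubmonoidClass.coe_pow]
    rfl
  exact ⟨z, hz, this ▸ hzd⟩

include han

/-- The minus type isometry group inside the symplectic group. -/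
theorem exists_embed : ∃ ψ : ↥(Cfsg.isometryGroup F (Cfsg.quadFormMinus 3 F a b)) →*
    Matrix.symplecticGroup (Fin 4) F, Function.Injective ψ := by
  classical
  have ha : a ≠ 0 := a_ne_zero (disc_ne han)
  let L : (Fin 4 ⊕ Fin 4 → F) →ₗ[F] ((Fin 3 ⊕ Fin 3) ⊕ Fin 2 → F) :=
    { toFun := fun w => Sum.elim (Sum.elim (fun i => w (.inl i.castSucc)) (fun i => w (.inr i.castSucc)))
        ![w (.inl (Fin.last 3)), a⁻¹ * w (.inr (Fin.last 3))]
      map_add' := fun u v => funext fun i => by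
        rcases i with (i | i) | i
        · rfl
        · rfl
        · fin_cases i <;> simp [mul_add]
      map_smul' := fun c u => funext fun i => by
        rcases i with (i | i) | i
        · rfl
        · rfl
        · fin_cases i <;> simp [mul_left_comm] }
  have hL : Function.Injective L := by
    intro u v h
    funext i
    rcases i with i | i
    · induction i using Fin.lastCases with
      | last => exact congrFun h (.inr 0)
      | cast i => exact congrFun h (.inl (.inl i))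
    · induction i using Fin.lastCases with
      | last => exact mul_left_cancel₀ (inv_ne_zero ha) (congrFun h (.inr 1))
      | cast i => exact congrFun h (.inl (.inr i))
  let e := LinearEquiv.ofBijective L
    ⟨hL, (LinearMap.injective_iff_surjective_of_finrank_eq_finrank (by simp)).1 hL⟩
  have key : ∀ u v, polar (H4.qMinus 3 F a b) (e u) (e v) =
      ∑ i, (u (.inl i) * v (.inr i) - u (.inr i) * v (.inl i)) := by
    intro u v
    show polar (H4.qMinus 3 F a b) (L u) (L v) = _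
    rw [H4.polar_qMinus]
    have h2 : (2 : F) = 0 := CharTwo.two_eq_zero
    simp only [CharTwo.sub_eq_add, h2, zero_mul, mul_zero, add_zero, zero_add, L, LinearMap.coe_mk,
      AddHom.coe_mk, Sum.elim_inl, Sum.elim_inr, Matrix.cons_val_zero, Matrix.cons_val_one,
      Fin.sum_univ_castSucc (n := 3)]
    have e1 : a * a⁻¹ = 1 := mul_inv_cancel₀ ha
    linear_combination (u (.inl (Fin.last 3)) * v (.inr (Fin.last 3)) +
      u (.inr (Fin.last 3)) * v (.inl (Fin.last 3))) * e1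
  let Φ := H67.restrictHom ((Units.coeHom _).comp
    (Cfsg.isometryGroup F (Cfsg.quadFormMinus 3 F a b)).subtype) e
  refine ⟨Φ.codRestrict (Matrix.symplecticGroup (Fin 4) F) fun g => ?_, fun g g' h => ?_⟩
  · refine H67.mem_symplectic_of_preserves _ fun u v => ?_
    rw [← key, ← key, H67.restrictHom_apply, H67.restrictHom_apply]
    simp only [polar, H4.coe_qMinus, ← Matrix.mulVec_add]
    have hg : ∀ w, Cfsg.quadFormMinus 3 F a b
        (((Units.coeHom _).comp (Cfsg.isometryGroup F (Cfsg.quadFormMinus 3 F a b)).subtype g) *ᵥ w) =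
        Cfsg.quadFormMinus 3 F a b w := fun w => g.2 w w
    simp only [hg]
  · exact H67.restrictHom_injective _ e (fun x y hxy => Subtype.ext (Units.ext hxy))
      (congrArg Subtype.val h)

/-- Isospectrality. -/
theorem range_orderOf_eq :
    Set.range (orderOf : Cfsg.PSp 4 F → ℕ) =
      Set.range (orderOf : ↥(Cfsg.isometryGroup F (Cfsg.quadFormMinus 3 F a b)) → ℕ) := by
  ext n
  constructor
  · rintro ⟨x, rfl⟩
    obtain ⟨g, rfl⟩ := QuotientGroup.mk_surjective x
    rw [orderOf_mk_sp]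
    exact exists_isometry_of_mem han (symplectic_order_mem g)
  · rintro ⟨g, rfl⟩
    obtain ⟨ψ, hψ⟩ := exists_embed han
    exact ⟨QuotientGroup.mk (ψ g), by rw [orderOf_mk_sp, orderOf_injective ψ hψ]⟩

end Cfsg.Agent.H18.SpecEight
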