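import Cfsg.Agent.H67.OrthTypes

/-!
Elements of given order in orthogonal groups of either type in characteristic two, and their products.
-/

set_option autoImplicit false

namespace Cfsg.Agent.H18.SpecEight

open QuadraticMap Module Cfsg.Agent

variable (F : Type*) [Field F]

/-- Some form of dimension `2 d` of type `s` (`true`: plus) has an isometry of order `N`. -/
def Has (s : Bool) (d N : ℕ) : Prop :=
  ∃ (Q : QuadraticForm F (Fin (2 * d) → F)) (g : (Fin (2 * d) → F) ≃ₗ[F] (Fin (2 * d) → F)),
    (polarBilin Q).Nondegenerate ∧ (H67.HasSing Q d ↔ s = true) ∧ (∀ v, Q (g v) = Q v) ∧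
      orderOf g = N

variable {F}

section
variable {V V' : Type*} [AddCommGroup V] [Module F V] [AddCommGroup V'] [Module F V']

/-- Transport of automorphisms along a linear equivalence. -/
def transport (e : V ≃ₗ[F] V') : (V ≃ₗ[F] V) →* (V' ≃ₗ[F] V') where
  toFun g := e.symm.trans (g.trans e)
  map_one' := LinearEquiv.ext fun v => e.apply_symm_apply v
  map_mul' g g' := LinearEquiv.ext fun v => by
    simp [LinearEquiv.mul_apply]

theorem transport_injective (e : V ≃ₗ[F] V') : Function.Injective (transport e) := by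
  intro g g' h
  refine LinearEquiv.ext fun v => e.injective ?_
  simpa [transport] using LinearEquiv.congr_fun h (e v)

theorem orderOf_transport (e : V ≃ₗ[F] V') (g : V ≃ₗ[F] V) :
    orderOf (transport e g) = orderOf g :=
  orderOf_injective _ (transport_injective e) g

theorem transport_apply (e : V ≃ₗ[F] V') (g : V ≃ₗ[F] V) (w : V') :
    transport e g w = e (g (e.symm w)) := rfl

theorem Has.intro [FiniteDimensional F V] {d N : ℕ} {s : Bool} (Q : QuadraticForm F V)
    (g : V ≃ₗ[F] V) (hV : finrank F V = 2 * d) (hQ : (polarBilin Q).Nondegenerate)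
    (hs : H67.HasSing Q d ↔ s = true) (hg : ∀ v, Q (g v) = Q v) (hN : orderOf g = N) :
    Has F s d N := by
  let e : V ≃ₗ[F] (Fin (2 * d) → F) := LinearEquiv.ofFinrankEq _ _ (by simpa using hV)
  refine ⟨Q.comp e.symm.toLinearMap, transport e g, ?_, ?_, fun v => ?_, ?_⟩
  · have h : ∀ x, (∀ y, polar (Q.comp e.symm.toLinearMap) x y = 0) → x = 0 := fun x hx =>
      e.symm.map_eq_zero_iff.1 (H4.eq_zero_of_polar hQ fun y => by
        have := hx (e y)
        simpa [polar] using this)
    exact ⟨h, fun y hy => h y fun x => (polar_comm _ _ _).trans (hy x)⟩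
  · rw [← hs]
    exact ⟨fun h => h.of_isom e.symm fun v => rfl, fun h => h.of_isom e fun v => by simp⟩
  · simp [transport_apply, hg]
  · rw [orderOf_transport, hN]

/-- Side by side automorphisms. -/
def prodHom : (V ≃ₗ[F] V) × (V' ≃ₗ[F] V') →* ((V × V') ≃ₗ[F] (V × V')) where
  toFun p := p.1.prodCongr p.2
  map_one' := LinearEquiv.ext fun v => rfl
  map_mul' _ _ := LinearEquiv.ext fun v => rfl

theorem prodHom_injective : Function.Injective (prodHom : (V ≃ₗ[F] V) × (V' ≃ₗ[F] V') → _) := by
  rintro ⟨g, g'⟩ ⟨k, k'⟩ h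
  refine Prod.ext (LinearEquiv.ext fun v => ?_) (LinearEquiv.ext fun v => ?_)
  · simpa [prodHom] using congrArg Prod.fst (LinearEquiv.congr_fun h (v, (0 : V')))
  · simpa [prodHom] using congrArg Prod.snd (LinearEquiv.congr_fun h ((0 : V), v))

end

theorem Has.of_dvd [Finite F] {s : Bool} {d N M : ℕ} (h : Has F s d N) (hM : M ∣ N) :
    Has F s d M := by
  obtain ⟨Q, g, hQ, hs, hg, hN⟩ := h
  have hpow : ∀ (k : ℕ) v, Q ((g ^ k) v) = Q v := fun k => by
    induction k with
    | zero => simp
    | succ k ih => intro v; rw [pow_succ, LinearEquiv.mul_apply, ih, hg]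
  refine ⟨Q, g ^ (N / M), hQ, hs, hpow _, ?_⟩
  have hN0 : orderOf g ≠ 0 := by
    haveI : Finite ((Fin (2 * d) → F) ≃ₗ[F] (Fin (2 * d) → F)) :=
      Finite.of_injective _ DFunLike.coe_injective
    exact (orderOf_pos g).ne'
  subst hN
  exact orderOf_pow_orderOf_div hN0 hM

variable [Fintype F] [CharP F 2]

/-- Two minus spaces make a plus space. -/
theorem hasSing_minus_prod {V V' : Type*} [AddCommGroup V] [Module F V] [AddCommGroup V'] [Module F V']
    [FiniteDimensional F V] [FiniteDimensional F V'] {Q : QuadraticForm F V} {Q' : QuadraticForm F V'}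
    (hQ : (polarBilin Q).Nondegenerate) (hQ' : (polarBilin Q').Nondegenerate) {l j : ℕ}
    (hV : finrank F V = 2 * l) (hV' : finrank F V' = 2 * j)
    (h : ¬ H67.HasSing Q l) (h' : ¬ H67.HasSing Q' j) : H67.HasSing (Q.prod Q') (l + j) := by
  obtain ⟨hl, ζ, hζ, g, hg⟩ := H67.exists_isom_qMinus hQ hV h
  obtain ⟨hj, ζ', hζ', g', hg'⟩ := H67.exists_isom_qMinus hQ' hV' h'
  obtain ⟨t, ht⟩ := H67.qMinus_isom (j - 1) hζ' hζ
  let A := (Fin (l - 1) → F) × (Fin (j - 1) → F) × (Fin 2 → F)
  let f₁ : A →ₗ[F] ((Fin (l - 1) ⊕ Fin (l - 1)) ⊕ Fin 2 → F) :=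
    { toFun := fun p => Sum.elim (Sum.elim p.1 0) p.2.2
      map_add' := fun p p' => funext fun i => by rcases i with (i | i) | i <;> first | rfl | simp
      map_smul' := fun c p => funext fun i => by rcases i with (i | i) | i <;> first | rfl | simp }
  let f₂ : A →ₗ[F] ((Fin (j - 1) ⊕ Fin (j - 1)) ⊕ Fin 2 → F) :=
    { toFun := fun p => Sum.elim (Sum.elim p.2.1 0) p.2.2
      map_add' := fun p p' => funext fun i => by rcases i with (i | i) | i <;> first | rfl | simp
      map_smul' := fun c p => funext fun i => by rcases i with (i | i) | i <;> first | rfl | simp }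
  have hf : finrank F A = l + j := by
    simp only [A, finrank_prod, finrank_fintype_fun_eq_card, Fintype.card_fin]
    omega
  rw [← hf]
  refine H67.hasSing_of_range
    ((g.symm.toLinearMap ∘ₗ f₁).prod ((g'.symm.toLinearMap ∘ₗ t.toLinearMap) ∘ₗ f₂)) ?_ ?_
  · intro p p' hp
    have h1 : f₁ p = f₁ p' := g.symm.injective (congrArg Prod.fst hp)
    have h2 : f₂ p = f₂ p' := t.injective (g'.symm.injective (congrArg Prod.snd hp))
    refine Prod.ext (funext fun i => congrFun h1 (.inl (.inl i))) (Prod.ext ?_ ?_)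
    · exact funext fun i => congrFun h2 (.inl (.inl i))
    · exact funext fun i => congrFun h1 (.inr i)
  · intro p
    show (Q.prod Q') (g.symm (f₁ p), g'.symm (t (f₂ p))) = 0
    rw [QuadraticMap.prod_apply, ← hg, ← hg', g.apply_symm_apply, g'.apply_symm_apply, ht]
    simp only [H4.coe_qMinus, Cfsg.quadFormMinus, f₁, f₂, LinearMap.coe_mk, AddHom.coe_mk,
      Sum.elim_inl, Sum.elim_inr, Pi.zero_apply, mul_zero, Finset.sum_const_zero, zero_add]
    exact CharTwo.add_self_eq_zero _

/-- Orthogonal sums. -/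
theorem Has.prod {s t : Bool} {d e N M : ℕ} (h : Has F s d N) (h' : Has F t e M) :
    Has F (s == t) (d + e) (Nat.lcm N M) := by
  obtain ⟨Q, g, hQ, hs, hg, rfl⟩ := h
  obtain ⟨Q', g', hQ', ht, hg', rfl⟩ := h'
  have hV : finrank F (Fin (2 * d) → F) = 2 * d := by simp
  have hV' : finrank F (Fin (2 * e) → F) = 2 * e := by simp
  refine Has.intro (Q.prod Q') (prodHom (g, g')) (by rw [finrank_prod, hV, hV']; ring)
    (H67.prod_nondegenerate hQ hQ') ?_ (fun v => ?_) ?_
  · cases s <;> cases t
    · exact iff_of_true (hasSing_minus_prod hQ hQ' hV hV' (fun h => by simpa using hs.1 h)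
        (fun h => by simpa using ht.1 h)) rfl
    · exact iff_of_false (fun h => by
        simpa using hs.1 (H67.hasSing_of_prod hQ hQ' hV hV' (ht.2 rfl) h)) (by simp)
    · refine iff_of_false (fun h => ?_) (by simp)
      have h2 : H67.HasSing (Q'.prod Q) (e + d) := by
        rw [add_comm e d]
        exact h.of_isom (LinearEquiv.prodComm F _ _) fun v => by
          simp [QuadraticMap.prod_apply, add_comm]
      simpa using ht.1 (H67.hasSing_of_prod hQ' hQ hV' hV (hs.2 rfl) h2)
    · exact iff_of_true (H67.hasSing_prod (hs.2 rfl) (ht.2 rfl)) rfl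
  · simp [prodHom, QuadraticMap.prod_apply, hg, hg']
  · rw [orderOf_injective _ prodHom_injective, Prod.orderOf]

end Cfsg.Agent.H18.SpecEight
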